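import Mathlib
import Cfsg.Agent.Lib.ElementOrders.UnitaryModel

/-!
# A hermitian matrix is `R Rᴴ` with `R` of full column rank
-/

set_option autoImplicit false

namespace Cfsg.Agent.Lib.UnitaryInvTwo

open Matrix

variable {F : Type*} [Field F]

/-- Conjugate transpose with respect to `σ`. -/
def ct (σ : F →+* F) {ι κ : Type*} (X : Matrix ι κ F) : Matrix κ ι F := (X.map σ)ᵀ

variable {σ : F →+* F} {ι κ μ : Type*}

theorem ct_mul [Fintype κ] (X : Matrix ι κ F) (Y : Matrix κ μ F) :
    ct σ (X * Y) = ct σ Y * ct σ X := by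
  simp [ct, Matrix.map_mul, Matrix.transpose_mul]

theorem ct_ct (hσ2 : ∀ a, σ (σ a) = a) (X : Matrix ι κ F) : ct σ (ct σ X) = X := by
  ext i j; simp [ct, hσ2]

theorem ct_one [DecidableEq ι] : ct σ (1 : Matrix ι ι F) = 1 := by
  simp [ct]

theorem ct_add (X Y : Matrix ι κ F) : ct σ (X + Y) = ct σ X + ct σ Y := by
  ext i j; simp [ct]

theorem ct_smul (c : F) (X : Matrix ι κ F) : ct σ (c • X) = σ c • ct σ X := by
  ext i j; simp [ct]

theorem ct_zero : ct σ (0 : Matrix ι κ F) = 0 := by
  ext i j; simp [ct]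

theorem mulVec_injective_of_rank [Fintype ι] [Fintype κ] {R : Matrix ι κ F}
    (h : R.rank = Fintype.card κ) : Function.Injective R.mulVec := by
  have h1 := R.mulVecLin.finrank_range_add_finrank_ker
  rw [Module.finrank_fintype_fun_eq_card] at h1
  have h2 : Module.finrank F (LinearMap.ker R.mulVecLin) = 0 := by
    rw [Matrix.rank] at h
    omega
  exact (LinearMap.ker_eq_bot (f := R.mulVecLin)).1 (Submodule.finrank_eq_zero.1 h2)

theorem eq_zero_of_mul_eq_zero [Fintype κ] {R : Matrix ι κ F}
    (hR : Function.Injective R.mulVec) {X : Matrix κ μ F} (h : R * X = 0) : X = 0 := by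
  ext i j
  have : R *ᵥ (fun k => X k j) = R *ᵥ 0 := by
    rw [Matrix.mulVec_zero]
    funext l
    exact congrFun (congrFun h l) j
  exact congrFun (hR this) i

/-- A hermitian matrix factors through its rank. -/
theorem exists_factor [Finite F] (hσ : σ ≠ RingHom.id F) (hσ2 : ∀ a, σ (σ a) = a) {n : ℕ}
    (N : Matrix (Fin n) (Fin n) F) (hN : ct σ N = N) :
    ∃ R : Matrix (Fin n) (Fin N.rank) F, Function.Injective R.mulVec ∧ N = R * ct σ R := by
  classical
  let b := Module.finBasis F (LinearMap.range N.mulVecLin)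
  choose e he using fun i : Fin N.rank => (b i).2
  set E : Matrix (Fin n) (Fin N.rank) F := Matrix.of fun k i => e i k with hE
  set X : Matrix (Fin N.rank) (Fin n) F := Matrix.of fun i j =>
    b.repr ⟨N.mulVecLin (Pi.single j 1), LinearMap.mem_range_self _ _⟩ i with hX
  have hNEX : N = N * E * X := by
    ext k j
    have h1 := congrArg Subtype.val
      (b.sum_repr ⟨N.mulVecLin (Pi.single j 1), LinearMap.mem_range_self _ _⟩)
    have h2 := congrFun h1 k
    simp only [Submodule.coe_sum, Submodule.coe_smul, Finset.sum_apply, Pi.smul_apply,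
      smul_eq_mul] at h2
    have h3 : N.mulVecLin (Pi.single j 1) k = N k j := by
      rw [Matrix.mulVecLin_apply, Matrix.mulVec_single_one]; rfl
    refine (h3.symm.trans (h2.symm.trans ?_))
    rw [Matrix.mul_apply (M := N * E)]
    refine Finset.sum_congr rfl fun i _ => ?_
    have hNE : (N * E) k i = (b i : Fin n → F) k := by rw [← he i]; rfl
    rw [hNE, mul_comm]
    rfl
  set M : Matrix (Fin N.rank) (Fin N.rank) F := ct σ E * N * E with hM
  have hMh : ct σ M = M := by
    rw [hM, ct_mul, ct_mul, ct_ct hσ2, hN, Matrix.mul_assoc]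
  have hN2 : N = ct σ X * M * X := by
    calc N = ct σ N * E * X := by rw [hN]; exact hNEX
      _ = ct σ (N * E * X) * E * X := by rw [← hNEX]
      _ = ct σ X * M * X := by
        rw [ct_mul, ct_mul, hN, hM]; simp only [Matrix.mul_assoc]
  have hMr : M.rank = Fintype.card (Fin N.rank) := by
    refine le_antisymm M.rank_le_card_width ?_
    rw [Fintype.card_fin]
    calc N.rank = (ct σ X * M * X).rank := by rw [← hN2]
      _ ≤ (ct σ X * M).rank := Matrix.rank_mul_le_left _ _
      _ ≤ M.rank := Matrix.rank_mul_le_right _ _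
  have hMdet : M.det ≠ 0 := fun h0 => by
    obtain ⟨v, hv, hMv⟩ := Matrix.exists_mulVec_eq_zero_iff.2 h0
    exact hv (mulVec_injective_of_rank hMr (by rw [hMv, Matrix.mulVec_zero]))
  have hG : Cfsg.Agent.Lib.ElementOrders.HermGram σ M :=
    ⟨fun i j => by
      have h := congrFun (congrFun hMh j) i
      simp only [ct, Matrix.transpose_apply, Matrix.map_apply] at h
      exact h.symm, hMdet⟩
  obtain ⟨V, hV, hone⟩ := Cfsg.Agent.Lib.ElementOrders.exists_orthonormal hσ hσ2 hG
  set W : Matrix (Fin N.rank) (Fin N.rank) F := V⁻¹ with hW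
  have hVu : IsUnit V.det := isUnit_iff_ne_zero.2 hV
  have hWV : W * V = 1 := Matrix.nonsing_inv_mul V hVu
  have hVW : V * W = 1 := Matrix.mul_nonsing_inv V hVu
  have hMW : M = Wᵀ * W.map σ := by
    have h1 : V.map σ * W.map σ = 1 := by rw [← Matrix.map_mul, hVW]; simp
    calc M = (Wᵀ * Vᵀ) * M * (V.map σ * W.map σ) := by
          rw [← Matrix.transpose_mul, hVW, h1]; simp
      _ = Wᵀ * (Vᵀ * M * V.map σ) * W.map σ := by simp only [Matrix.mul_assoc]
      _ = Wᵀ * W.map σ := by rw [hone, Matrix.mul_one]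
  set Y : Matrix (Fin N.rank) (Fin n) F := W.map σ * X with hY
  have hfac : N = ct σ Y * ct σ (ct σ Y) := by
    rw [ct_ct hσ2]
    calc N = ct σ X * (Wᵀ * W.map σ) * X := by rw [← hMW]; exact hN2
      _ = ct σ Y * Y := by
        rw [hY, ct_mul]
        have : ct σ (W.map σ) = Wᵀ := by ext i j; simp [ct, hσ2]
        rw [this]; simp only [Matrix.mul_assoc]
  refine ⟨ct σ Y, mulVec_injective_of_rank (le_antisymm (Matrix.rank_le_card_width _) ?_), hfac⟩
  rw [Fintype.card_fin]
  conv_lhs => rw [hfac]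
  exact Matrix.rank_mul_le_left _ _

end Cfsg.Agent.Lib.UnitaryInvTwo
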