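import Mathlib
import Cfsg.Agent.Lib.UnitaryInvTwo.Factor
import Cfsg.Agent.Lib.Forms.Bridge

/-!
# Conjugacy of involutions in `SU_n(q)`, `q` even
-/

set_option autoImplicit false

namespace Cfsg.Agent.Lib.UnitaryInvTwo

open Matrix

variable {F : Type*} [Field F] [Fintype F] {n q : ℕ}

theorem preserves_iff (hF : Fintype.card F = q ^ 2) (M : Matrix (Fin n) (Fin n) F) :
    (∀ u v, Cfsg.hermForm n F q (M *ᵥ u) (M *ᵥ v) = Cfsg.hermForm n F q u v) ↔
      ct (Forms.qPowHom hF) M * M = 1 := by
  classical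
  set σ := Forms.qPowHom hF
  have key : ∀ u v, Cfsg.hermForm n F q (M *ᵥ u) (M *ᵥ v) =
      u ⬝ᵥ ((Mᵀ * M.map σ) *ᵥ fun i => σ (v i)) := by
    intro u v
    rw [← Matrix.mulVec_mulVec, Matrix.dotProduct_mulVec u Mᵀ, Matrix.vecMul_transpose]
    refine Finset.sum_congr rfl fun i _ => ?_
    congr 1
    rw [← Forms.qPowHom_apply hF ((M *ᵥ v) i), RingHom.map_mulVec]
    rfl
  have hone : ∀ u v, Cfsg.hermForm n F q u v = u ⬝ᵥ fun i => σ (v i) := fun u v => by
    simp [Cfsg.hermForm, dotProduct, σ]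
  have htr : Mᵀ * M.map σ = (ct σ M * M)ᵀ := by simp [ct, Matrix.transpose_mul]
  constructor
  · intro h
    have h2 : Mᵀ * M.map σ = 1 := by
      ext i j
      have h1 := h (Pi.single i 1) (Pi.single j 1)
      rw [key, hone] at h1
      have e : (fun k => σ ((Pi.single j (1 : F) : Fin n → F) k)) = Pi.single j 1 := by
        funext k
        by_cases hk : k = j <;> simp [hk, Pi.single_apply]
      rw [e, Matrix.mulVec_single_one, single_one_dotProduct, single_one_dotProduct] at h1
      rw [Matrix.one_apply, Matrix.col_apply] at *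
      rw [h1, Pi.single_apply]
    rw [htr] at h2
    simpa using congrArg Matrix.transpose h2
  · intro h u v
    rw [key, hone, htr, h, Matrix.transpose_one, Matrix.one_mulVec]

variable {σ : F →+* F}

theorem exists_dual_iso (hσ : σ ≠ RingHom.id F) (hσ2 : ∀ a, σ (σ a) = a) {s : ℕ}
    {R : Matrix (Fin n) (Fin s) F} (hR : Function.Injective R.mulVec) (hiso : ct σ R * R = 0)
    (e : Matrix (Fin s) (Fin 1) F) :
    ∃ d : Matrix (Fin n) (Fin 1) F, ct σ R * d = e ∧
      ∀ w : Fin s, e = Matrix.of (fun i _ => if i = w then (1 : F) else 0) → ct σ d * d = 0 := by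
  classical
  have hsurj : Function.Surjective (ct σ R).mulVec := by
    have hr : R.rank = Fintype.card (Fin s) := by
      rw [Matrix.rank, LinearMap.finrank_range_of_inj (f := R.mulVecLin) hR,
        Module.finrank_fintype_fun_eq_card]
    have hker : ∀ x : Fin s → F, x ᵥ* ct σ R = 0 → x = 0 := by
      intro x hx
      have h1 : R *ᵥ (fun i => σ (x i)) = R *ᵥ 0 := by
        rw [Matrix.mulVec_zero]
        funext k
        have := congrArg σ (congrFun hx k)
        simp only [Matrix.vecMul, dotProduct, map_sum, map_mul, ct, Matrix.transpose_apply,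
          Matrix.map_apply, hσ2, Pi.zero_apply, map_zero] at this
        rw [Pi.zero_apply, ← this]
        rw [Matrix.mulVec, dotProduct]
        exact Finset.sum_congr rfl fun i _ => mul_comm (R k i) (σ (x i))
      funext i
      exact (map_eq_zero σ).1 (congrFun (hR h1) i)
    have hrt : (ct σ R)ᵀ.rank = Fintype.card (Fin s) := by
      rw [Matrix.rank, LinearMap.finrank_range_of_inj, Module.finrank_fintype_fun_eq_card]
      intro x y hxy
      have : (x - y) ᵥ* ct σ R = 0 := by
        simp only [Matrix.mulVecLin_apply, Matrix.mulVec_transpose] at hxy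
        rw [Matrix.sub_vecMul, hxy, sub_self]
      exact sub_eq_zero.1 (hker _ this)
    rw [Matrix.rank_transpose] at hrt
    have htop : LinearMap.range (ct σ R).mulVecLin = ⊤ :=
      Submodule.eq_top_of_finrank_eq (by rw [← Matrix.rank, hrt, Module.finrank_fintype_fun_eq_card])
    exact LinearMap.range_eq_top.1 htop
  obtain ⟨d0, hd0⟩ := hsurj (fun i => e i 0)
  set D : Matrix (Fin n) (Fin 1) F := Matrix.of fun i _ => d0 i
  have hD : ct σ R * D = e := by
    ext i j
    rw [Subsingleton.elim j 0]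
    exact congrFun hd0 i
  by_cases hw : ∃ w : Fin s, e = Matrix.of (fun i _ => if i = w then (1 : F) else 0)
  · obtain ⟨w, hw⟩ := hw
    obtain ⟨u, hu⟩ := Forms.exists_add_conj_eq_one hσ hσ2
    set W : Matrix (Fin n) (Fin 1) F := Matrix.of fun i _ => R i w with hWd
    set t : F := (ct σ D * D) 0 0 * u * (-1)
    have hWD : ct σ W * D = 1 := by
      ext i j
      rw [Subsingleton.elim i 0, Subsingleton.elim j 0, Matrix.one_apply_eq]
      have h1 := congrFun (congrFun hD w) 0
      rw [hw, Matrix.of_apply, if_pos rfl] at h1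
      exact h1
    have hRW : ct σ R * W = 0 := by
      ext i j
      exact congrFun (congrFun hiso i) w
    have hWW : ct σ W * W = 0 := by
      ext i j
      exact congrFun (congrFun hiso w) w
    have hDW : ct σ D * W = 1 := by
      rw [← ct_one (σ := σ) (ι := Fin 1), ← hWD, ct_mul, ct_ct hσ2]
    refine ⟨D + t • W, by rw [Matrix.mul_add, Matrix.mul_smul, hRW, smul_zero, add_zero, hD],
      fun w' hw' => ?_⟩
    rw [ct_add, ct_smul, Matrix.add_mul, Matrix.mul_add, Matrix.mul_add, Matrix.smul_mul,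
      Matrix.smul_mul, Matrix.mul_smul, Matrix.mul_smul, hWW, hWD, hDW, smul_zero, smul_zero, add_zero]
    ext i j
    rw [Subsingleton.elim i 0, Subsingleton.elim j 0]
    simp only [Matrix.add_apply, Matrix.smul_apply, Matrix.one_apply_eq, Matrix.zero_apply,
      smul_eq_mul, mul_one]
    have hh : σ ((ct σ D * D) 0 0) = (ct σ D * D) 0 0 := by
      have h1 : ct σ (ct σ D * D) = ct σ D * D := by rw [ct_mul, ct_ct hσ2]
      exact congrFun (congrFun h1 0) 0
    simp only [t, map_mul, map_neg, map_one, hh]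
    linear_combination -((ct σ D * D) 0 0) * hu
  · exact ⟨D, hD, fun w' hw' => absurd ⟨w', hw'⟩ hw⟩

/-- A unitary matrix commuting with `R Rᴴ` with prescribed square as determinant. -/
theorem exists_centralizing (hσ : σ ≠ RingHom.id F) (hσ2 : ∀ a, σ (σ a) = a) {s : ℕ} (hs : 0 < s)
    {R : Matrix (Fin n) (Fin s) F} (hR : Function.Injective R.mulVec) (hiso : ct σ R * R = 0)
    {l : F} (hl : σ l * l = 1) :
    ∃ T : Matrix (Fin n) (Fin n) F, ct σ T * T = 1 ∧ T.det = l * l ∧
      T * (R * ct σ R) = (R * ct σ R) * T := by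
  classical
  set z : Fin s := ⟨0, hs⟩
  obtain ⟨d, hd, hdd⟩ := exists_dual_iso hσ hσ2 hR hiso
    (Matrix.of fun i _ => if i = z then (1 : F) else 0)
  have hdd' := hdd z rfl
  set U : Matrix (Fin n) (Fin 2) F := Matrix.of fun i j => if j = 0 then R i z else d i 0 with hU
  set J : Matrix (Fin 2) (Fin 2) F := !![0, 1; 1, 0] with hJ
  have hJ2 : J * J = 1 := by
    ext i j; fin_cases i <;> fin_cases j <;> simp [hJ, Matrix.mul_apply, Fin.sum_univ_two]
  have hJc : ct σ J = J := by
    ext i j; fin_cases i <;> fin_cases j <;> simp [ct, hJ]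
  have hUU : ct σ U * U = J := by
    have a00 := congrFun (congrFun hiso z) z
    have a01 := congrFun (congrFun hd z) 0
    have a11 := congrFun (congrFun hdd' 0) 0
    have a10 : σ ((ct σ R * d) z 0) = 1 := by rw [a01]; simp
    simp only [ct, Matrix.mul_apply, Matrix.transpose_apply, Matrix.map_apply, Matrix.zero_apply,
      Matrix.of_apply, if_true, map_sum, map_mul, hσ2] at a00 a01 a10 a11
    ext i j
    fin_cases i <;> fin_cases j <;>
      simp [ct, hJ, hU, Matrix.mul_apply, a00, a01, a11]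
    rw [← a10]
    exact Finset.sum_congr rfl fun k _ => mul_comm _ _
  set P : Matrix (Fin n) (Fin n) F := U * (J * ct σ U) with hP
  have hPP : P * P = P := by
    rw [hP]
    calc U * (J * ct σ U) * (U * (J * ct σ U)) = U * (J * (ct σ U * U) * (J * ct σ U)) := by
          simp only [Matrix.mul_assoc]
      _ = U * (J * ct σ U) := by rw [hUU, hJ2, Matrix.one_mul]
  have hPc : ct σ P = P := by
    rw [hP, ct_mul, ct_mul, ct_ct hσ2, hJc, Matrix.mul_assoc]
  refine ⟨1 + (l - 1) • P, ?_, ?_, ?_⟩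
  · rw [ct_add, ct_one, ct_smul, hPc, Matrix.add_mul, Matrix.mul_add, Matrix.mul_add,
      Matrix.smul_mul, Matrix.smul_mul, Matrix.mul_smul, Matrix.one_mul, Matrix.one_mul,
      Matrix.mul_one, Matrix.mul_smul, hPP, map_sub, map_one, smul_smul, add_assoc, ← add_smul, ← add_smul,
      show l - 1 + ((σ l - 1) + (σ l - 1) * (l - 1)) = 0 by linear_combination hl, zero_smul,
      add_zero]
  · rw [hP, ← Matrix.smul_mul, Matrix.det_one_add_mul_comm, Matrix.mul_smul, Matrix.mul_assoc,
      hUU, hJ2, show (1 : Matrix (Fin 2) (Fin 2) F) + (l - 1) • 1 = l • 1 by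
        rw [sub_smul, one_smul]; abel,
      Matrix.det_smul, Matrix.det_one, mul_one, Fintype.card_fin, sq]
  · set E : Matrix (Fin 2) (Fin s) F := Matrix.of fun i j => if i = 0 ∧ j = z then (1 : F) else 0
      with hE
    have hUR : J * (ct σ U * R) = E := by
      ext i j
      have b0 := congrFun (congrFun hiso z) j
      have b1 : σ ((ct σ R * d) j 0) = if j = z then 1 else 0 := by
        rw [hd]; simp [apply_ite σ]
      simp only [ct, Matrix.mul_apply, Matrix.transpose_apply, Matrix.map_apply, Matrix.zero_apply,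
        map_sum, map_mul, hσ2] at b0 b1
      fin_cases i <;> simp [ct, hJ, hE, hU, Matrix.mul_apply, Fin.sum_univ_two, b0]
      rw [← b1]
      exact Finset.sum_congr rfl fun k _ => mul_comm _ _
    have hPN : P * (R * ct σ R) = U * E * ct σ R := by
      rw [hP, ← hUR]; simp only [Matrix.mul_assoc]
    have hUE : U * E * ct σ R = Matrix.of (fun i j => R i z * σ (R j z)) := by
      ext i j
      simp [hE, hU, Matrix.mul_apply, Fin.sum_univ_two, ct, ite_mul]
    have hsym : ct σ (U * E * ct σ R) = U * E * ct σ R := by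
      rw [hUE]; ext i j; simp [ct, hσ2, mul_comm]
    have hNP : R * ct σ R * P = P * (R * ct σ R) := by
      rw [hPN, ← hsym, ← hPN, ct_mul, ct_mul, ct_ct hσ2, hPc]
    rw [Matrix.add_mul, Matrix.mul_add, Matrix.one_mul, Matrix.mul_one, Matrix.smul_mul,
      Matrix.mul_smul, hNP]

theorem exists_conj (hF : Fintype.card F = q ^ 2) [CharP F 2] {A A' : Matrix (Fin n) (Fin n) F}
    (hA : ct (Forms.qPowHom hF) A * A = 1) (hA' : ct (Forms.qPowHom hF) A' * A' = 1)
    (h2 : A * A = 1) (h2' : A' * A' = 1) (hne : A ≠ 1) (hr : (A - 1).rank = (A' - 1).rank) :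
    ∃ C : Matrix (Fin n) (Fin n) F,
      ct (Forms.qPowHom hF) C * C = 1 ∧ C.det = 1 ∧ C * A = A' * C := by
  classical
  haveI : PerfectRing F 2 := PerfectRing.ofFiniteOfIsReduced 2 F
  set σ := Forms.qPowHom hF with hσd
  have hσ : σ ≠ RingHom.id F := Forms.qPowHom_ne_id hF
  have hσ2 : ∀ a, σ (σ a) = a := Forms.qPowHom_qPowHom hF
  have key : ∀ {B : Matrix (Fin n) (Fin n) F}, ct σ B * B = 1 → B * B = 1 →
      ct σ (B - 1) = B - 1 ∧ (B - 1) * (B - 1) = 0 := by
    intro B hB hB2
    have hBc : ct σ B = B := by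
      calc ct σ B = ct σ B * (B * B) := by rw [hB2, Matrix.mul_one]
        _ = B := by rw [← Matrix.mul_assoc, hB, Matrix.one_mul]
    refine ⟨by rw [sub_eq_add_neg, ct_add, hBc, ← neg_one_smul F (1 : Matrix (Fin n) (Fin n) F),
      ct_smul, ct_one, map_neg, map_one], ?_⟩
    have : (B - 1) * (B - 1) = B * B - B - B + 1 := by noncomm_ring
    rw [this, hB2]
    ext i j
    simp only [Matrix.add_apply, Matrix.sub_apply, Matrix.zero_apply]
    have h2 : (2 : F) = 0 := CharTwo.two_eq_zero
    linear_combination ((1 : Matrix (Fin n) (Fin n) F) i j - B i j) * h2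
  obtain ⟨hN, hNN⟩ := key hA h2
  obtain ⟨hN', hNN'⟩ := key hA' h2'
  obtain ⟨s, hsd, R, hR, hRe⟩ : ∃ s, (A - 1).rank = s ∧ ∃ R : Matrix (Fin n) (Fin s) F,
      Function.Injective R.mulVec ∧ A - 1 = R * ct σ R := ⟨_, rfl, exists_factor hσ hσ2 (A - 1) hN⟩
  obtain ⟨R', hR', hRe'⟩ : ∃ R : Matrix (Fin n) (Fin s) F,
      Function.Injective R.mulVec ∧ A' - 1 = R * ct σ R := by
    rw [← hsd, hr]
    exact exists_factor hσ hσ2 (A' - 1) hN'
  have iso : ∀ {s : ℕ} {X : Matrix (Fin n) (Fin s) F}, Function.Injective X.mulVec →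
      (X * ct σ X) * (X * ct σ X) = 0 → ct σ X * X = 0 := by
    intro s X hX h0
    have h1 : X * (ct σ X * X * ct σ X) = 0 := by simpa only [Matrix.mul_assoc] using h0
    have h2 := eq_zero_of_mul_eq_zero hX h1
    have h3 : X * (ct σ X * X) = 0 := by
      have := congrArg (ct σ) h2
      rw [ct_mul, ct_mul, ct_ct hσ2, ct_zero] at this
      exact this
    exact eq_zero_of_mul_eq_zero hX h3
  have hiso : ct σ R * R = 0 := iso hR (by rw [← hRe]; exact hNN)
  have hiso' : ct σ R' * R' = 0 := iso hR' (by rw [← hRe']; exact hNN')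
  have li : ∀ {s : ℕ} {X : Matrix (Fin n) (Fin s) F}, Function.Injective X.mulVec →
      LinearIndependent F (fun j : Fin s => fun i => X i j) := fun hX =>
    Matrix.mulVec_injective_iff.1 hX
  obtain ⟨g, hg, hgr⟩ := (Forms.hermSesq_goodForm (n := n) hF).witt_family
    (fun j => fun i => R i j) (fun j => fun i => R' i j) (li hR) (li hR') (fun i j => by
      have e1 := congrFun (congrFun hiso i) j
      have e2 := congrFun (congrFun hiso' i) j
      simp only [Matrix.mul_apply, ct, Matrix.transpose_apply, Matrix.map_apply, hσd,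
        Forms.qPowHom_apply, Matrix.zero_apply] at e1 e2
      rw [Forms.hermSesq_apply, Forms.hermSesq_apply, Cfsg.hermForm, Cfsg.hermForm]
      simp only [mul_comm _ ((_ : F) ^ q)]
      rw [e1, e2])
  set C₀ : Matrix (Fin n) (Fin n) F := LinearMap.toMatrix' (g : (Fin n → F) →ₗ[F] Fin n → F) with hC₀
  have hCv : ∀ v, C₀ *ᵥ v = g v := fun v => LinearMap.toMatrix'_mulVec _ v
  have hC : ct σ C₀ * C₀ = 1 := (preserves_iff hF C₀).1 fun u v => by
    rw [hCv, hCv]
    exact hg v u
  have hCR : C₀ * R = R' := by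
    ext i j
    exact (congrFun (hCv fun k => R k j) i).trans (congrFun (hgr j) i)
  have hC' : C₀ * ct σ C₀ = 1 := mul_eq_one_comm.1 hC
  have hdet : σ C₀.det * C₀.det = 1 := by
    have := congrArg Matrix.det hC
    rw [ct, Matrix.det_mul, Matrix.det_transpose, Matrix.det_one, ← RingHom.mapMatrix_apply,
      ← RingHom.map_det] at this
    exact this
  have hs : 0 < s := by
    refine Nat.pos_of_ne_zero fun h0 => hne ?_
    rw [← sub_eq_zero, hRe]
    haveI : IsEmpty (Fin s) := by rw [h0]; infer_instance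
    ext i j
    simp [Matrix.mul_apply]
  obtain ⟨l, hl⟩ := surjective_frobenius F 2 C₀.det⁻¹
  rw [frobenius_def] at hl
  have hdne : C₀.det ≠ 0 := fun h => by simp [h] at hdet
  have hl1 : σ l * l = 1 := by
    apply (frobenius F 2).injective
    rw [frobenius_def, frobenius_def, mul_pow, ← map_pow, hl, map_inv₀, ← mul_inv, hdet, inv_one,
      one_pow]
  obtain ⟨T, hT, hTd, hTN⟩ := exists_centralizing hσ hσ2 hs hR hiso hl1
  refine ⟨C₀ * T, ?_, ?_, ?_⟩
  · rw [ct_mul, Matrix.mul_assoc, ← Matrix.mul_assoc (ct σ C₀), hC, Matrix.one_mul, hT]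
  · rw [Matrix.det_mul, hTd, ← sq, hl, mul_inv_cancel₀ hdne]
  · have hCN : C₀ * (A - 1) = (A' - 1) * C₀ := by
      rw [hRe', ← hCR, ct_mul, hRe]
      calc C₀ * (R * ct σ R) = C₀ * R * ct σ R * (ct σ C₀ * C₀) := by
            rw [hC, Matrix.mul_one, Matrix.mul_assoc]
        _ = C₀ * R * (ct σ R * ct σ C₀) * C₀ := by simp only [Matrix.mul_assoc]
    have hTA : T * (A - 1) = (A - 1) * T := by rw [hRe]; exact hTN
    have h : C₀ * T * (A - 1) = (A' - 1) * (C₀ * T) := by
      rw [Matrix.mul_assoc, hTA, ← Matrix.mul_assoc, hCN, Matrix.mul_assoc]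
    rw [Matrix.mul_sub, Matrix.sub_mul, Matrix.mul_one, Matrix.one_mul] at h
    exact sub_left_injective h

end Cfsg.Agent.Lib.UnitaryInvTwo
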